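import Groth.Agent.Lib.ProjPic26.Over
import Groth.Agent.Lib.Ample.GenLocusPull
import Groth.Agent.Lib.QCohTwist9.Basic
import Groth.Agent.Lib.RegSecStrat20.Good
import Groth.Agent.Lib.Ample.ProjSections
import Groth.Agent.Lib.Ample.VeryAmpleProd
import Mathlib.Algebra.Module.Submodule.Union

/-!
# A hyperplane through a rational point avoiding finitely many other points
-/

set_option autoImplicit false
set_option linter.all false
set_option maxHeartbeats 1000000
set_option backward.isDefEq.respectTransparency false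

universe u

open CategoryTheory CategoryTheory.Limits AlgebraicGeometry TopologicalSpace Opposite MvPolynomial
open GrothLib GrothLib.Ample GrothLib.Ample.ProjMap HomogeneousLocalization

noncomputable section

namespace GrothLib.HypSep5

theorem map_appLE_away {R : Type u} [CommRing R] {n : ℕ} {Y : Scheme.{u}} {q : Y ⟶ Spec (CommRingCat.of R)}
    (D : Data n q) (i : Fin (n + 1)) (z : Away (CohB1.polyGrading n R) (MvPolynomial.X i : MvPolynomial (Fin (n + 1)) R))
    (e0 : D.U i ≤ D.map ⁻¹ᵁ Proj.basicOpen (CohB1.polyGrading n R) (MvPolynomial.X i)) :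
    (D.map.appLE (Proj.basicOpen (CohB1.polyGrading n R) (MvPolynomial.X i)) (D.U i) e0).hom
      (Proj.awayToSection (CohB1.polyGrading n R) (MvPolynomial.X i) z) = D.g i z := by
  refine (ConcreteCategory.bijective_of_isIso (D.U i).topIso.inv).1 ?_
  have e1 : ⊤ ≤ D.piece i ⁻¹ᵁ Proj.basicOpen (CohB1.polyGrading n R) (MvPolynomial.X i) :=
    (ProjPt.pt_preimage_self (CohB1.polyGrading n R) _ _ _).ge
  have h1 := pt_appLE_awayToSection (CohB1.polyGrading n R) (X_mem i) one_pos
    ((D.U i).topIso.inv.hom.comp (D.g i)) z e1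
  rw [RingHom.comp_apply] at h1
  refine Eq.trans ?_ h1
  have : ∀ (φ : (D.U i : Scheme.{u}) ⟶ CohB1.ProjSpace n R)
      (e' : _ ≤ φ ⁻¹ᵁ Proj.basicOpen (CohB1.polyGrading n R) (MvPolynomial.X i)),
      φ = (D.U i).ι ≫ D.map →
      (D.U i).topIso.inv ((D.map.appLE (Proj.basicOpen (CohB1.polyGrading n R) (MvPolynomial.X i)) (D.U i) e0).hom
        (Proj.awayToSection (CohB1.polyGrading n R) (MvPolynomial.X i) z)) =
      (φ.appLE (Proj.basicOpen (CohB1.polyGrading n R) (MvPolynomial.X i)) ⊤ e').hom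
        (Proj.awayToSection (CohB1.polyGrading n R) (MvPolynomial.X i) z) := by
    rintro _ e' rfl
    rw [← Scheme.Hom.appLE_comp_appLE (D.U i).ι D.map _ (D.U i) ⊤ e0 (D.U i).ι_preimage_self.ge,
      CommRingCat.comp_apply, Scheme.Opens.ι_appLE]
    rfl
  exact this _ e1 (D.ι_map i).symm

theorem eq_of_basicOpen_iff {P : Scheme.{u}} {V : P.Opens} (hV : IsAffineOpen V) {a b : P} (ha : a ∈ V) (hb : b ∈ V)
    (h : ∀ w : Γ(P, V), a ∈ P.basicOpen w ↔ b ∈ P.basicOpen w) : a = b := by
  refine (inseparable_iff_forall_isOpen.2 fun O hO => ⟨fun haO => ?_, fun hbO => ?_⟩).eq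
  · obtain ⟨w, hw, haw⟩ := hV.exists_basicOpen_le (V := ⟨O, hO⟩) ⟨a, haO⟩ ha
    exact hw ((h w).1 haw)
  · obtain ⟨w, hw, hbw⟩ := hV.exists_basicOpen_le (V := ⟨O, hO⟩) ⟨b, hbO⟩ hb
    exact hw ((h w).2 hbw)

variable {k : Type u} [Field k] {X : Scheme.{u}} [X.Over (Spec (CommRingCat.of k))]

theorem evaluation_const (U : X.Opens) (y : X) (hy : y ∈ U) (t : k) :
    (X.evaluation U y hy).hom (GrothLib.Ample.res (le_top : U ≤ ⊤) (ProjUP.toGlobal (X ↘ Spec (CommRingCat.of k)) t)) =
      Curv2.resMap k X y t :=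
  congrArg (X.residue y).hom (TopCat.Presheaf.germ_res_apply X.presheaf (homOfLE (le_top : U ≤ ⊤)) y hy _)

variable {n : ℕ} (D : Data n (X ↘ Spec (CommRingCat.of k)))

/-- The value of a ratio at a point of a chart. -/
def val (j : Fin (n + 1)) {y : X} (hy : y ∈ D.U j) (l : Fin (n + 1)) : X.residueField y :=
  (X.evaluation (D.U j) y hy).hom (D.φ j l)

theorem mem_U_iff_val (j : Fin (n + 1)) {y : X} (hy : y ∈ D.U j) (l : Fin (n + 1)) :
    y ∈ D.U l ↔ val D j hy l ≠ 0 := by
  rw [val, X.evaluation_ne_zero_iff_mem_basicOpen, D.basicOpen_eq]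
  exact ⟨fun h => ⟨hy, h⟩, fun h => h.2⟩

/-- Two points with the same rational coordinates in a chart have the same image. -/
theorem map_eq_map (j : Fin (n + 1)) {x y : X} (hx : x ∈ D.U j) (hy : y ∈ D.U j) (c : Fin (n + 1) → k)
    (hcx : ∀ l, val D j hx l = Curv2.resMap k X x (c l)) (hcy : ∀ l, val D j hy l = Curv2.resMap k X y (c l)) :
    D.map x = D.map y := by
  let P := CohB1.polyGrading n k
  have key : ∀ {z : X} (hz : z ∈ D.U j), (∀ l, val D j hz l = Curv2.resMap k X z (c l)) →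
      ∀ a : MvPolynomial (Fin (n + 1)) k,
      (D.map z ∈ (Proj P).basicOpen (Proj.awayToSection P (MvPolynomial.X j) (eval₂Hom (cst (MvPolynomial.X j)) (ratio j) a)) ↔
        MvPolynomial.eval c a ≠ 0) := by
    intro z hz hc a
    have e : ((X.evaluation (D.U j) z hz).hom.comp (D.g j)).comp (eval₂Hom (cst (MvPolynomial.X j)) (ratio j)) =
        (Curv2.resMap k X z).comp (MvPolynomial.eval c) := by
      refine MvPolynomial.ringHom_ext (fun t => ?_) fun l => ?_
      · simp only [RingHom.comp_apply, eval₂Hom_C, eval_C, D.g_cst]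
        exact evaluation_const (D.U j) z hz t
      · simp only [RingHom.comp_apply, eval₂Hom_X', eval_X, D.g_ratio]
        exact hc l
    set w := eval₂Hom (cst (MvPolynomial.X j)) (ratio j) a with hw
    have h0 : z ∈ X.basicOpen (D.g j w) ↔ MvPolynomial.eval c a ≠ 0 := by
      rw [← X.evaluation_ne_zero_iff_mem_basicOpen z hz (D.g j w)]
      rw [show (X.evaluation (D.U j) z hz).hom (D.g j w) = Curv2.resMap k X z (MvPolynomial.eval c a) from congr($e a)]
      exact (map_ne_zero _)
    rw [← h0, ← map_appLE_away D j w (D.map_preimage j).ge, Scheme.basicOpen_appLE]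
    exact ⟨fun h => ⟨hz, h⟩, fun h => h.2⟩
  refine eq_of_basicOpen_iff (Proj.isAffineOpen_basicOpen P _ (X_mem j) one_pos) ?_ ?_ fun w => ?_
  · exact (D.map_preimage j).ge hx
  · exact (D.map_preimage j).ge hy
  · obtain ⟨z, rfl⟩ : ∃ z, Proj.awayToSection P (MvPolynomial.X j) z = w :=
      ⟨(Proj.basicOpenIsoAway P _ (X_mem j) one_pos).inv w,
        Iso.inv_hom_id_apply (Proj.basicOpenIsoAway P _ (X_mem j) one_pos) w⟩
    obtain ⟨a, rfl⟩ := exists_eval_ratio j z
    exact (key hx hcx a).trans (key hy hcy a).symm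

theorem exists_section_separating [Infinite k] (L : X.Modules) (hL : PicF.IsInvertible L)
    (hva : RelAmple.IsRelVeryAmplePn (X ↘ Spec (CommRingCat.of k)) L)
    (x : X) (hx : Function.Surjective (Curv2.resMap k X x)) (N : ℕ) (pts : Fin N → X) (hne : ∀ i, pts i ≠ x) :
    ∃ s : Coh.structureModule X ⟶ L, x ∉ CohB1.genLocus L s ∧ ∀ i, pts i ∈ CohB1.genLocus L s := by
  classical
  let q := X ↘ Spec (CommRingCat.of k)
  obtain ⟨cc, ⟨φ⟩⟩ := Ample.exists_cocycle hL
  obtain ⟨n, i, hi, hiq, ⟨d⟩⟩ := hva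
  let p1 := ProjPic26.pr n (Spec (CommRingCat.of k))
  let r0 := i ≫ p1
  let e0 : (Scheme.Modules.pullback r0).obj (Twist.twistProjSpace n (ULift.{u} ℤ) 1) ≅ cc.twist 1 :=
    ((Scheme.Modules.pullbackComp i p1).app _).symm ≪≫ d.symm ≪≫ φ
  obtain ⟨hs0, hr0⟩ := Ample.ProjMap.eq_map_dataOfSections r0 cc e0
  let D : Data n q := dataOfSections cc e0 (pullCoord r0) hs0 q
  let a : Fin (n + 1) → cc.sect 1 ⊤ := sec cc e0 (pullCoord r0)
  -- the map is injective
  have hinj : Function.Injective D.map.base := by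
    let Dz := dataOfSections cc e0 (pullCoord r0) hs0 (r0 ≫ CohB1.ProjSpace.toSpec n (ULift.{u} ℤ))
    let q₀ : CohB1.ProjSpace n k ⟶ Spec (CommRingCat.of (ULift.{u} ℤ)) := specULiftZIsTerminal.from _
    let Dχ := dataOfMorphism (𝟙 (CohB1.ProjSpace n k)) q₀
    have hle : ∀ l : ULift.{u} (Fin (n + 1)),
        (D.map ≫ Dχ.map) ⁻¹ᵁ (pcoc n (ULift.{u} ℤ)).D l ≤ Dz.map ⁻¹ᵁ (pcoc n (ULift.{u} ℤ)).D l := fun l => by
      rw [Scheme.Hom.comp_preimage]
      exact le_of_eq (((congrArg (D.map ⁻¹ᵁ ·) (Dχ.map_preimage l.down)).trans (D.map_preimage l.down)).trans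
        (Dz.map_preimage l.down).symm)
    have hχ : D.map ≫ Dχ.map = r0 := by
      refine (ext_of_ratios _ _ (specULiftZIsTerminal.hom_ext _ _) hle fun l j => ?_).trans hr0.symm
      obtain ⟨l⟩ := l
      rw [pullRatio, ← Scheme.Hom.appLE_comp_appLE D.map Dχ.map ((pcoc n (ULift.{u} ℤ)).D ⟨l⟩)
        ((pcoc n k).D ⟨l⟩) _ (Dχ.map_preimage l).ge (le_of_eq (Scheme.Hom.comp_preimage D.map Dχ.map _ ▸
          congrArg (D.map ⁻¹ᵁ ·) (Dχ.map_preimage l))), CommRingCat.comp_apply]
      refine (congrArg _ (Dχ.map_appLE_ratio l j le_rfl (Dχ.map_preimage l).ge)).trans ?_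
      rw [GrothLib.Ample.res_self]
      have hD : (D.map ≫ Dχ.map) ⁻¹ᵁ (pcoc n (ULift.{u} ℤ)).D ⟨l⟩ ≤ D.U l :=
        (hle ⟨l⟩).trans (Dz.map_preimage l).le
      refine (congrArg _ (?_ : _ = Proj.awayToSection (CohB1.polyGrading n k) (MvPolynomial.X l) (ratio l j))).trans
        ((D.map_appLE_ratio l j hD _).trans ?_)
      · show (Scheme.Hom.appLE (𝟙 (CohB1.ProjSpace n k)) _ _ _).hom _ = _
        simp [Scheme.Hom.appLE]
        rfl
      · refine Eq.trans ?_ (congrArg (GrothLib.Ample.res (hle ⟨l⟩))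
          (Dz.map_appLE_ratio l j (Dz.map_preimage l).le le_rfl).symm)
        exact (GrothLib.Ample.res_res _ _ _).symm
    let ψ : CohB1.ProjSpace n k ⟶ CohB1.ProjSpaceOver n (Spec (CommRingCat.of k)) :=
      pullback.lift Dχ.map (CohB1.ProjSpace.toSpec n k) (specULiftZIsTerminal.hom_ext _ _)
    have hψ : D.map ≫ ψ = i := by
      refine pullback.hom_ext ?_ ?_
      · rw [Category.assoc, pullback.lift_fst]; exact hχ
      · rw [Category.assoc, pullback.lift_snd, Data.map_toSpec]; exact hiq.symm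
    intro p p' h
    refine i.isEmbedding.injective ?_
    rw [← hψ, Scheme.Hom.comp_apply, Scheme.Hom.comp_apply]
    exact congrArg ψ.base h
  -- constants and combinations
  let K : k → Γ(X, ⊤) := fun t => ProjUP.toGlobal q t
  let S : (Fin (n + 1) → k) → cc.sect 1 ⊤ := fun t => ∑ l, K (t l) • a l
  let s : (Fin (n + 1) → k) → (Coh.structureModule X ⟶ L) := fun t => cc.hom (S t) ≫ φ.inv
  have hloc : ∀ (t : Fin (n + 1) → k) (j : Fin (n + 1)) {y : X} (hy : y ∈ D.U j),
      (y ∈ CohB1.genLocus L (s t) ↔ ∑ l, Curv2.resMap k X y (t l) * val D j hy l ≠ 0) := by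
    intro t j y hy
    rw [show CohB1.genLocus L (s t) = CohB1.genLocus (cc.twist 1) (cc.hom (S t)) from
      (Ample.genLocus_comp_iso φ.symm (cc.hom (S t)))]
    let f : Γ(X, D.U j) := ∑ l, GrothLib.Ample.res (le_top : D.U j ≤ ⊤) (K (t l)) * D.φ j l
    have hc : GrothLib.Mero.Zero.gsecOf (cc.hom (S t)) (D.U j) =
        f • (show Γ(cc.twist 1, D.U j) from cc.sectRes (le_top : D.U j ≤ ⊤) (a j)) := by
      refine (cc.hom_app_one (S t) (D.U j)).trans ?_
      show cc.sectRes (le_top : D.U j ≤ ⊤) (∑ l, K (t l) • a l) = f • cc.sectRes (le_top : D.U j ≤ ⊤) (a j)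
      rw [map_sum, Finset.sum_smul]
      refine Finset.sum_congr rfl fun l _ => ?_
      rw [cc.sectRes_smul, mul_smul]
      refine congrArg (GrothLib.Ample.res (le_top : D.U j ≤ ⊤) (K (t l)) • ·) ?_
      exact (cc.exists_ratio (a j) (a l)).choose_spec.1
    refine (QCohTwist9.mem_genLocus_iff _ (cc.isGen_sectRes_locus (a j)) hc hy).trans ?_
    refine ((X.mem_basicOpen f y hy).symm.trans (X.evaluation_ne_zero_iff_mem_basicOpen y hy f).symm).trans ?_
    show (X.evaluation (D.U j) y hy).hom f ≠ 0 ↔ _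
    simp only [f, map_sum, map_mul, K, q, evaluation_const, val]
  -- coordinates of `x`
  obtain ⟨j, hxj⟩ := Opens.mem_iSup.1 (D.cover.ge (Opens.mem_top x))
  choose c hc using fun l => hx (val D j hxj l)
  have hcj : c j = 1 := (Curv2.resMap k X x).injective (by rw [hc, map_one, val, D.self, map_one])
  let K₀ : Submodule k (Fin (n + 1) → k) :=
    LinearMap.ker (Fintype.linearCombination k c)
  have hK₀ : ∀ t ∈ K₀, x ∉ CohB1.genLocus L (s t) := by
    intro t ht hmem
    refine (hloc t j hxj).1 hmem ?_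
    simp only [← hc, ← map_mul, ← map_sum]
    rw [show ∑ l, t l * c l = 0 from ht, map_zero]
  let B : ∀ p : Fin N, Submodule k K₀ := fun p =>
    { carrier := {t | pts p ∉ CohB1.genLocus L (s t.1)}
      add_mem' := fun {t t'} h h' => by
        obtain ⟨m, hm⟩ := Opens.mem_iSup.1 (D.cover.ge (Opens.mem_top (pts p)))
        simp only [Set.mem_setOf_eq, hloc _ m hm, not_not, Submodule.coe_add, Pi.add_apply, map_add,
          add_mul, Finset.sum_add_distrib] at h h' ⊢
        rw [h, h', add_zero]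
      zero_mem' := by
        obtain ⟨m, hm⟩ := Opens.mem_iSup.1 (D.cover.ge (Opens.mem_top (pts p)))
        simp [Set.mem_setOf_eq, hloc _ m hm]
      smul_mem' := fun r t h => by
        obtain ⟨m, hm⟩ := Opens.mem_iSup.1 (D.cover.ge (Opens.mem_top (pts p)))
        simp only [Set.mem_setOf_eq, hloc _ m hm, not_not, Submodule.coe_smul, Pi.smul_apply, smul_eq_mul,
          map_mul, mul_assoc, ← Finset.mul_sum] at h ⊢
        rw [h, mul_zero] }
  have hB : ∀ p, B p ≠ ⊤ := by
    intro p hp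
    let y := pts p
    obtain ⟨m, hm⟩ := Opens.mem_iSup.1 (D.cover.ge (Opens.mem_top y))
    have hall : ∀ l, val D m hm l = Curv2.resMap k X y (c l) * val D m hm j := by
      intro l
      let t : Fin (n + 1) → k := Pi.single l 1 - c l • Pi.single j 1
      have ht : t ∈ K₀ := by
        show Fintype.linearCombination k c t = 0
        simp [t, Fintype.linearCombination_apply_single, hcj, map_sub, map_smul]
      have h : (⟨t, ht⟩ : K₀) ∈ B p := hp ▸ Submodule.mem_top
      change y ∉ CohB1.genLocus L (s t) at h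
      rw [hloc _ m hm, not_not] at h
      simp only [t, Pi.sub_apply, Pi.smul_apply, map_sub, smul_eq_mul, map_mul, sub_mul, Finset.sum_sub_distrib,
        mul_assoc, ← Finset.mul_sum, Pi.single_apply, apply_ite (Curv2.resMap k X y), map_one, map_zero,
        ite_mul, one_mul, zero_mul, Finset.sum_ite_eq', Finset.mem_univ, if_true] at h
      exact sub_eq_zero.1 h
    have hyj : y ∈ D.U j := by
      rw [mem_U_iff_val D m hm j]
      intro h0
      have h1 := hall m
      rw [h0, mul_zero, val, D.self, map_one] at h1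
      exact one_ne_zero h1
    refine hne p (hinj ((map_eq_map D j hyj hxj c (fun l => ?_) fun l => (hc l).symm)))
    let t : Fin (n + 1) → k := Pi.single l 1 - c l • Pi.single j 1
    have ht : t ∈ K₀ := by
      show Fintype.linearCombination k c t = 0
      simp [t, Fintype.linearCombination_apply_single, hcj, map_sub, map_smul]
    have h : (⟨t, ht⟩ : K₀) ∈ B p := hp ▸ Submodule.mem_top
    change y ∉ CohB1.genLocus L (s t) at h
    rw [hloc _ j hyj, not_not] at h
    simp only [t, Pi.sub_apply, Pi.smul_apply, map_sub, smul_eq_mul, map_mul, sub_mul, Finset.sum_sub_distrib,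
      mul_assoc, ← Finset.mul_sum, Pi.single_apply, apply_ite (Curv2.resMap k X y), map_one, map_zero,
      ite_mul, one_mul, zero_mul, Finset.sum_ite_eq', Finset.mem_univ, if_true] at h
    rw [show val D j hyj j = 1 by rw [val, D.self, map_one], mul_one] at h
    exact sub_eq_zero.1 h
  obtain ⟨t, ht⟩ := Submodule.exists_forall_notMem_of_forall_ne_top B hB
  exact ⟨s t.1, hK₀ t.1 t.2, fun p => not_not.1 (ht p)⟩

end GrothLib.HypSep5
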